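import Cfsg.Agent.Char.Induction
import Cfsg.Agent.Char.Orthogonality
import Mathlib

/-!
Splitting a permutation character along an abelian quotient of an intermediate subgroup.
-/

set_option autoImplicit false

namespace CfsgLib.Char

theorem sum_hom_apply (A : Type*) [CommGroup A] [Finite A] [Fintype (A →* ℂˣ)] (a : A) [Decidable (a = 1)] :
    ∑ θ : A →* ℂˣ, (θ a : ℂ) = if a = 1 then (Nat.card A : ℂ) else 0 := by
  haveI : NeZero (Monoid.exponent A) := ⟨Monoid.exponent_ne_zero_of_finite⟩
  split
  · next h =>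
    subst h
    simp only [map_one, Units.val_one, Finset.sum_const, Finset.card_univ, nsmul_eq_mul, mul_one]
    rw [← Nat.card_eq_fintype_card, Nat.card_congr (CommGroup.monoidHom_mulEquiv_of_hasEnoughRootsOfUnity A ℂ).some.toEquiv]
  · next h =>
    obtain ⟨φ, hφ⟩ := CommGroup.exists_apply_ne_one_of_hasEnoughRootsOfUnity A ℂ h
    have h1 : (φ a : ℂ) * ∑ θ : A →* ℂˣ, (θ a : ℂ) = ∑ θ : A →* ℂˣ, (θ a : ℂ) := by
      rw [Finset.mul_sum]
      exact Fintype.sum_equiv (Equiv.mulLeft φ) _ _ fun θ => by simp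
    by_contra h2
    exact hφ (Units.ext ((mul_eq_right₀ h2).1 h1))

universe u

variable {G : Type u} [Group G] [Fintype G]

/-- If `S` is the kernel of a map of `H` onto an abelian group `A` and the permutation character
on the cosets of `S` has norm `|A| + 1`, it is the principal character plus `|A|` distinct
irreducible characters. -/
theorem exists_perm_split {H S : Subgroup G} (hSH : S ≤ H) (hH : H ≠ ⊤) {A : Type*} [CommGroup A] [Finite A]
    (a : H →* A) (ha : Function.Surjective a) (hker : S.subgroupOf H = a.ker)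
    (hnorm : Cfsg.classInner (Cfsg.indFun S fun _ => (1 : ℂ)) (Cfsg.indFun S fun _ => (1 : ℂ)) = (Nat.card A : ℂ) + 1) :
    ∃ χ : Fin (Nat.card A) → G → ℂ, (∀ i, Cfsg.IsIrrCharacter G (χ i)) ∧ Function.Injective χ ∧
      Cfsg.indFun S (fun _ => (1 : ℂ)) = fun g => 1 + ∑ i, χ i g := by
  classical
  haveI : Fintype H := Fintype.ofFinite H
  haveI : Fintype S := Fintype.ofFinite S
  haveI : NeZero (Monoid.exponent A) := ⟨Monoid.exponent_ne_zero_of_finite⟩
  haveI : Finite (A →* ℂˣ) :=
    Finite.of_equiv A (CommGroup.monoidHom_mulEquiv_of_hasEnoughRootsOfUnity A ℂ).some.symm.toEquiv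
  haveI : Fintype (A →* ℂˣ) := Fintype.ofFinite _
  haveI hn : (S.subgroupOf H).Normal := by rw [hker]; exact a.normal_ker
  have hstep : Cfsg.indFun (S.subgroupOf H) (fun _ => (1 : ℂ)) = ∑ θ : A →* ℂˣ, fun h => (θ (a h) : ℂ) := by
    funext h
    rw [Finset.sum_apply, sum_hom_apply A (a h)]
    by_cases hm : h ∈ S.subgroupOf H
    · rw [indFun_apply_normal (fun _ => (1 : ℂ)) ⟨h, hm⟩, if_pos (by rwa [hker, MonoidHom.mem_ker] at hm),
        Finset.sum_const, Finset.card_univ, nsmul_eq_mul, mul_one, ← Nat.card_eq_fintype_card, inv_mul_eq_div,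
        card_div_card_subgroup]
      congr 1
      rw [hker, Subgroup.index_ker, MonoidHom.range_eq_top.2 ha, Subgroup.card_top]
    · rw [indFun_eq_zero_of_normal _ hm, if_neg (fun e => hm (by rwa [hker, MonoidHom.mem_ker]))]
  set π := Cfsg.indFun S fun _ => (1 : ℂ) with hπ
  let P : (A →* ℂˣ) → G → ℂ := fun θ => Cfsg.indFun H fun h => (θ (a h) : ℂ)
  have hsum : π = ∑ θ : A →* ℂˣ, P θ := by
    rw [hπ, ← indFun_indFun hSH (fun _ => (1 : ℂ)), hstep]
    exact indFun_sum Finset.univ _
  have hP : ∀ θ, Cfsg.IsCharacter G (P θ) := fun θ => IsCharacter.indFun (isCharacter_ofHom (θ.comp a))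
  have h1c : ∀ (K : Subgroup G) [Fintype K],
      Cfsg.classInner (Cfsg.indFun K fun _ => (1 : ℂ)) (fun _ => 1) = 1 := fun K _ => by
    rw [classInner_indFun _ (IsCharacter.isClassFunction isCharacter_one)]
    exact classInner_one_one
  have hP1 : P 1 = Cfsg.indFun H fun _ => (1 : ℂ) :=
    show Cfsg.indFun H _ = _ from congrArg _ (funext fun h => by simp)
  let X : (A →* ℂˣ) → G → ℂ := fun θ => if θ = 1 then P θ - fun _ => 1 else P θ
  have hX : ∀ θ, Cfsg.IsCharacter G (X θ) := by
    intro θ
    by_cases hθ : θ = 1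
    · subst hθ
      simp only [X, if_pos]
      refine isCharacter_of_classInner_nat ?_ fun χ hχ => ?_
      · intro g h
        simp only [Pi.sub_apply]
        rw [IsCharacter.isClassFunction (hP 1) g h]
      · rw [classInner_sub_left]
        by_cases hc : χ = fun _ => (1 : ℂ)
        · subst hc
          rw [hP1, h1c H, classInner_one_one]
          exact ⟨0, by simp⟩
        · rw [IsIrrCharacter.classInner_of_ne isIrrCharacter_one hχ (Ne.symm hc), sub_zero]
          exact IsCharacter.exists_classInner_eq_natCast' (hP 1) (IsIrrCharacter.isCharacter hχ)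
    · simp only [X, if_neg hθ]; exact hP θ
  have hXne : ∀ θ, X θ ≠ 0 := by
    intro θ h0
    have h1 : X θ 1 = 0 := by rw [h0]; rfl
    by_cases hθ : θ = 1
    · subst hθ
      simp only [X, if_pos, Pi.sub_apply, hP1] at h1
      rw [indFun_one, mul_one, sub_eq_zero, Nat.cast_eq_one, Subgroup.index_eq_one] at h1
      exact hH h1
    · simp only [X, if_neg hθ, P] at h1
      rw [indFun_one] at h1
      simp [H.index_ne_zero_of_finite] at h1
  have hXsum : ∑ θ, X θ = π - fun _ => 1 := by
    rw [hsum]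
    funext g
    simp only [Finset.sum_apply, Pi.sub_apply]
    have : ∀ θ, X θ g = P θ g - if θ = 1 then (1 : ℂ) else 0 := fun θ => by
      by_cases hθ : θ = 1 <;> simp [X, hθ]
    rw [Finset.sum_congr rfl fun θ _ => this θ, Finset.sum_sub_distrib, Finset.sum_ite_eq']
    simp
  choose m hm using fun θ θ' => IsCharacter.exists_classInner_eq_natCast' (hX θ) (hX θ')
  have hdiag : ∀ θ, 1 ≤ m θ θ := fun θ => by
    by_contra h
    refine hXne θ (classInner_self_eq_zero ?_)
    rw [hm, show m θ θ = 0 by omega, Nat.cast_zero]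
  have htot : ∑ θ, ∑ θ', m θ θ' = Nat.card A := by
    have h1 : ((∑ θ, ∑ θ', m θ θ' : ℕ) : ℂ) = (Nat.card A : ℂ) := by
      push_cast
      simp only [← hm]
      rw [Finset.sum_congr rfl fun θ _ => (classInner_sum_right Finset.univ (X θ) X).symm, ← classInner_sum_left,
        hXsum, classInner_sub_left, classInner_sub_right, classInner_sub_right, hnorm, classInner_one_one]
      have e1 : Cfsg.classInner π (fun _ => 1) = 1 := h1c S
      have e2 : Cfsg.classInner (fun _ => 1) π = 1 := by rw [← classInner_conj, e1, map_one]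
      rw [e1, e2]
      ring
    exact_mod_cast h1
  have hcard : Nat.card A = Fintype.card (A →* ℂˣ) := by
    rw [← Nat.card_eq_fintype_card,
      Nat.card_congr (CommGroup.monoidHom_mulEquiv_of_hasEnoughRootsOfUnity A ℂ).some.toEquiv]
  have hrow : ∀ θ, ∑ θ', m θ θ' = 1 := by
    intro θ
    by_contra hne
    have h2 : 1 < ∑ θ', m θ θ' := by
      have := Finset.single_le_sum (f := fun θ' => m θ θ') (fun _ _ => Nat.zero_le _) (Finset.mem_univ θ)
      have := hdiag θ
      omega
    have h3 : ∑ θ : A →* ℂˣ, 1 < ∑ θ, ∑ θ', m θ θ' :=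
      Finset.sum_lt_sum (fun i _ => (hdiag i).trans
        (Finset.single_le_sum (f := fun θ' => m i θ') (fun _ _ => Nat.zero_le _) (Finset.mem_univ i)))
        ⟨θ, Finset.mem_univ θ, h2⟩
    rw [htot, hcard] at h3
    simp at h3
  have hmval : ∀ θ θ', m θ θ' = if θ = θ' then 1 else 0 := by
    intro θ θ'
    have h1 := hrow θ
    rw [← Finset.add_sum_erase _ _ (Finset.mem_univ θ)] at h1
    have h2 := hdiag θ
    split
    · next h => subst h; omega
    · next h =>
      have h3 : ∑ x ∈ Finset.univ.erase θ, m θ x = 0 := by omega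
      exact Finset.sum_eq_zero_iff.1 h3 θ' (Finset.mem_erase.2 ⟨Ne.symm h, Finset.mem_univ _⟩)
  let e : Fin (Nat.card A) ≃ (A →* ℂˣ) := (Fintype.equivFinOfCardEq hcard.symm).symm
  refine ⟨fun i => X (e i), fun i => IsCharacter.isIrrCharacter_of_classInner_self (hX _) ?_, fun i j hij => ?_, ?_⟩
  · rw [hm, hmval, if_pos rfl, Nat.cast_one]
  · by_contra hne
    have h1 := hm (e i) (e j)
    rw [hmval, if_neg (fun h => hne (e.injective h)), Nat.cast_zero] at h1
    rw [show X (e i) = X (e j) from hij, hm, hmval, if_pos rfl, Nat.cast_one] at h1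
    exact one_ne_zero h1
  · funext g
    have h1 := congrFun hXsum g
    rw [Finset.sum_apply, Pi.sub_apply] at h1
    rw [Equiv.sum_comp e (fun θ => X θ g), h1]
    ring

end CfsgLib.Char
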