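import Mathlib
import Cfsg.Agent.PermChar.Split

/-!
`SL n` on the non-zero vectors.
-/

set_option autoImplicit false

namespace CfsgLib.Char

open Matrix

variable {F : Type*} [Field F] [DecidableEq F] {n : ℕ}

/-- `SL n` is transitive on linearly independent `k`-tuples, `k < n`. -/
theorem exists_sl_map {k : ℕ} (hk : k < n) {b : Fin k → Fin n → F} (hb : LinearIndependent F b) :
    ∃ g : Matrix.SpecialLinearGroup (Fin n) F, ∀ i : Fin k,
      (g : Matrix (Fin n) (Fin n) F) *ᵥ Pi.single (Fin.castLE hk.le i) 1 = b i := by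
  classical
  let B := Module.Basis.sumExtend hb
  haveI : Fintype (Fin k ⊕ Module.Basis.sumExtendIndex hb) := FiniteDimensional.fintypeBasisIndex B
  haveI : Finite (Module.Basis.sumExtendIndex hb) := Finite.sum_right (Fin k)
  haveI : Fintype (Module.Basis.sumExtendIndex hb) := Fintype.ofFinite _
  have hc : Nat.card (Module.Basis.sumExtendIndex hb) = n - k := by
    have h1 := Module.finrank_eq_nat_card_basis B
    rw [Module.finrank_fin_fun, Nat.card_sum, Nat.card_fin] at h1
    omega
  let σ : Fin k ⊕ Module.Basis.sumExtendIndex hb ≃ Fin n :=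
    ((Equiv.sumCongr (Equiv.refl _) (Finite.equivFinOfCardEq hc)).trans finSumFinEquiv).trans
      (finCongr (by omega))
  let L : (Fin n → F) ≃ₗ[F] (Fin n → F) := (Pi.basisFun F _).equiv (B.reindex σ) (Equiv.refl _)
  have hσ : ∀ i, σ.symm (Fin.castLE hk.le i) = Sum.inl i := fun i => by
    rw [Equiv.symm_apply_eq]
    exact Fin.ext rfl
  have hL : ∀ i : Fin k, L (Pi.single (Fin.castLE hk.le i) 1) = b i := by
    intro i
    rw [← Pi.basisFun_apply F, Module.Basis.equiv_apply, Equiv.refl_apply, Module.Basis.reindex_apply, hσ]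
    simp [B, Module.Basis.sumExtend, Equiv.Set.sumDiffSubset]
    rfl
  let P : Matrix (Fin n) (Fin n) F := LinearMap.toMatrix' L.toLinearMap
  have hd : P.det ≠ 0 := by
    rw [LinearMap.det_toMatrix']
    exact (LinearEquiv.isUnit_det' L).ne_zero
  let D : Matrix (Fin n) (Fin n) F := Matrix.diagonal (Function.update 1 ⟨k, hk⟩ P.det⁻¹)
  have hD : D.det = P.det⁻¹ := by
    rw [Matrix.det_diagonal, Finset.prod_update_of_mem (Finset.mem_univ _)]
    simp
  refine ⟨⟨P * D, by rw [Matrix.det_mul, hD, mul_inv_cancel₀ hd]⟩, fun i => ?_⟩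
  show (P * D) *ᵥ _ = _
  have hne : Fin.castLE hk.le i ≠ ⟨k, hk⟩ := fun e => by
    have := congrArg Fin.val e
    simp only [Fin.val_castLE] at this
    omega
  rw [← Matrix.mulVec_mulVec, Matrix.diagonal_mulVec_single, Function.update_of_ne hne, Pi.one_apply, one_mul,
    LinearMap.toMatrix'_mulVec]
  exact hL i

variable (F n)

/-- Non-zero vectors. -/
abbrev NZVec : Type _ := {v : Fin n → F // v ≠ 0}

variable {F n}

/-- The action of `SL n` on non-zero vectors. -/
@[reducible] def nzAction : MulAction (Matrix.SpecialLinearGroup (Fin n) F) (NZVec F n) where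
  smul g v := ⟨(g : Matrix (Fin n) (Fin n) F) *ᵥ v.1, fun h => v.2 (by
    have h1 := congrArg (((g⁻¹ : Matrix.SpecialLinearGroup (Fin n) F) : Matrix (Fin n) (Fin n) F) *ᵥ ·) h
    simp only [Matrix.mulVec_zero, Matrix.mulVec_mulVec] at h1
    rwa [← Matrix.SpecialLinearGroup.coe_mul, inv_mul_cancel, Matrix.SpecialLinearGroup.coe_one,
      Matrix.one_mulVec] at h1)⟩
  one_smul v := Subtype.ext (show ((1 : Matrix.SpecialLinearGroup (Fin n) F) : Matrix (Fin n) (Fin n) F) *ᵥ v.1 = v.1 by
    rw [Matrix.SpecialLinearGroup.coe_one, Matrix.one_mulVec])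
  mul_smul g h v := Subtype.ext (by
    show ((g * h : Matrix.SpecialLinearGroup (Fin n) F) : Matrix (Fin n) (Fin n) F) *ᵥ v.1 = _
    rw [Matrix.SpecialLinearGroup.coe_mul, ← Matrix.mulVec_mulVec]
    rfl)

attribute [local instance] nzAction

theorem coe_nzSmul (g : Matrix.SpecialLinearGroup (Fin n) F) (v : NZVec F n) :
    (g • v).1 = (g : Matrix (Fin n) (Fin n) F) *ᵥ v.1 := rfl

theorem split_vectors [Fintype F] (hn : 3 ≤ n) :
    ∃ χ : Fin (Fintype.card F - 1) → (Matrix.SpecialLinearGroup (Fin n) F → ℂ),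
      (∀ i, Cfsg.IsIrrCharacter (Matrix.SpecialLinearGroup (Fin n) F) (χ i)) ∧ Function.Injective χ ∧
      ∀ g : Matrix.SpecialLinearGroup (Fin n) F,
        (Nat.card {v : Fin n → F // v ≠ 0 ∧ (g : Matrix (Fin n) (Fin n) F) *ᵥ v = v} : ℂ) = 1 + ∑ i, χ i g := by
  classical
  let i0 : Fin n := ⟨0, by omega⟩
  let i1 : Fin n := ⟨1, by omega⟩
  have hi : i0 ≠ i1 := fun h => by simp [i0, i1, Fin.ext_iff] at h
  let x0 : NZVec F n := ⟨Pi.single i0 1, by simp⟩
  have ht : ∀ v : NZVec F n, ∃ g : Matrix.SpecialLinearGroup (Fin n) F, g • x0 = v := fun v => by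
    obtain ⟨g, hg⟩ := exists_sl_map (k := 1) (n := n) (by omega) (b := ![v.1])
      (LinearIndependent.of_subsingleton 0 v.2)
    exact ⟨g, Subtype.ext (hg 0)⟩
  haveI : MulAction.IsPretransitive (Matrix.SpecialLinearGroup (Fin n) F) (NZVec F n) := ⟨fun v w => by
    obtain ⟨g, hg⟩ := ht v
    obtain ⟨h, hh⟩ := ht w
    exact ⟨h * g⁻¹, by rw [← hg, mul_smul, inv_smul_smul, hh]⟩⟩
  let S := MulAction.stabilizer (Matrix.SpecialLinearGroup (Fin n) F) x0
  have hcol : ∀ (g : Matrix (Fin n) (Fin n) F) (i : Fin n), (g *ᵥ Pi.single i0 1) i = g i i0 := fun g i => by simp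
  let H : Subgroup (Matrix.SpecialLinearGroup (Fin n) F) :=
    { carrier := {g | ∀ i, i ≠ i0 → (g : Matrix (Fin n) (Fin n) F) i i0 = 0}
      one_mem' := fun i hi => by simp [hi]
      mul_mem' := fun {g h} hg hh i hi => by
        rw [Matrix.SpecialLinearGroup.coe_mul, Matrix.mul_apply]
        refine Finset.sum_eq_zero fun j _ => ?_
        by_cases hj : j = i0
        · rw [hj, hg i hi, zero_mul]
        · rw [hh j hj, mul_zero]
      inv_mem' := fun {g} hg i hi => by
        have h1 : (((g⁻¹ * g : Matrix.SpecialLinearGroup (Fin n) F)) : Matrix (Fin n) (Fin n) F) i i0 = 0 := by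
          rw [inv_mul_cancel]; simp [hi]
        rw [Matrix.SpecialLinearGroup.coe_mul, Matrix.mul_apply, Finset.sum_eq_single i0] at h1
        · refine (mul_eq_zero.1 h1).resolve_right fun h2 => ?_
          have h3 : (g : Matrix (Fin n) (Fin n) F).det = 0 :=
            Matrix.det_eq_zero_of_column_eq_zero i0 fun j => if hj : j = i0 then hj ▸ h2 else hg j hj
          rw [g.2] at h3
          exact one_ne_zero h3
        · intro j _ hj; rw [hg j hj, mul_zero]
        · simp }
  have hsc : ∀ g : H, (g.1 : Matrix (Fin n) (Fin n) F) i0 i0 ≠ 0 := fun g h => by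
    have h3 : (g.1 : Matrix (Fin n) (Fin n) F).det = 0 :=
      Matrix.det_eq_zero_of_column_eq_zero i0 fun j => if hj : j = i0 then hj ▸ h else g.2 j hj
    rw [g.1.2] at h3
    exact one_ne_zero h3
  let a : H →* Fˣ :=
    { toFun := fun g => Units.mk0 _ (hsc g)
      map_one' := Units.ext (by simp)
      map_mul' := fun g h => Units.ext (by
        rw [Units.val_mk0, Units.val_mul, Units.val_mk0, Units.val_mk0, Subgroup.coe_mul,
          Matrix.SpecialLinearGroup.coe_mul, Matrix.mul_apply, Finset.sum_eq_single i0]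
        · intro j _ hj; rw [h.2 j hj, mul_zero]
        · simp) }
  have hSH : S ≤ H := fun g hg i hi => by
    have h1 := congrFun (congrArg Subtype.val (MulAction.mem_stabilizer_iff.1 hg)) i
    rw [coe_nzSmul, hcol] at h1
    rw [h1]
    simp [x0, hi]
  have hker : S.subgroupOf H = a.ker := by
    ext g
    rw [Subgroup.mem_subgroupOf, MonoidHom.mem_ker, MulAction.mem_stabilizer_iff]
    constructor
    · intro h
      have h1 := congrFun (congrArg Subtype.val h) i0
      rw [coe_nzSmul, hcol] at h1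
      exact Units.ext (by simpa [a, x0] using h1)
    · intro h
      have h1 : (g.1 : Matrix (Fin n) (Fin n) F) i0 i0 = 1 := congrArg Units.val h
      refine Subtype.ext (funext fun i => ?_)
      rw [coe_nzSmul, hcol]
      by_cases hi : i = i0
      · rw [hi, h1]; simp [x0]
      · rw [g.2 i hi]; simp [x0, hi]
  have ha : Function.Surjective a := fun c => by
    obtain ⟨g, hg⟩ := ht ⟨Pi.single i0 (c : F), by simp⟩
    have h1 : ∀ i, (g : Matrix (Fin n) (Fin n) F) i i0 = (Pi.single i0 (c : F) : Fin n → F) i := fun i =>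
      (hcol _ i).symm.trans (congrFun (congrArg Subtype.val hg) i)
    exact ⟨⟨g, fun i hi => by rw [h1]; simp [hi]⟩, Units.ext (by show (g : Matrix (Fin n) (Fin n) F) i0 i0 = _; rw [h1]; simp)⟩
  have hH : H ≠ ⊤ := fun h => by
    obtain ⟨g, hg⟩ := ht ⟨Pi.single i1 1, by simp⟩
    have h1 : (g : Matrix (Fin n) (Fin n) F) i1 i0 = 1 :=
      (hcol _ i1).symm.trans ((congrFun (congrArg Subtype.val hg) i1).trans (by simp))
    have h2 : g ∈ H := h ▸ Subgroup.mem_top g
    rw [h2 i1 (Ne.symm hi)] at h1
    exact zero_ne_one h1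
  have hperm := indFun_one_stabilizer (G := Matrix.SpecialLinearGroup (Fin n) F) x0
  have hnorm : Cfsg.classInner (Cfsg.indFun S fun _ => (1 : ℂ)) (Cfsg.indFun S fun _ => (1 : ℂ)) =
      (Nat.card Fˣ : ℂ) + 1 := by
    let G' := Matrix.SpecialLinearGroup (Fin n) F
    let f : Option Fˣ → MulAction.orbitRel.Quotient G' (NZVec F n × NZVec F n) := fun o =>
      Quotient.mk'' (x0, o.elim (⟨Pi.single i1 1, by simp⟩ : NZVec F n) fun c => ⟨Pi.single i0 (c : F), by simp⟩)
    have hf : Function.Bijective f := by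
      refine ⟨fun o o' h => ?_, fun q => ?_⟩
      · have h1 := Quotient.eq''.1 h
        rw [MulAction.orbitRel_apply, MulAction.mem_orbit_iff] at h1
        obtain ⟨g, hg⟩ := h1
        rw [Prod.smul_mk, Prod.mk.injEq] at hg
        have e1 := congrArg Subtype.val hg.1
        have e2 := congrArg Subtype.val hg.2
        rw [coe_nzSmul] at e1 e2
        have key : ∀ c : F, (g : Matrix (Fin n) (Fin n) F) *ᵥ Pi.single i0 c = Pi.single i0 c := fun c => by
          rw [show (Pi.single i0 c : Fin n → F) = c • x0.1 by simp [x0, ← Pi.single_smul],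
            Matrix.mulVec_smul, e1]
        rcases o with _ | c <;> rcases o' with _ | c'
        · rfl
        · simp only [Option.elim_some, Option.elim_none, key] at e2
          have h3 := congrFun e2 i1
          simp [Ne.symm hi] at h3
        · simp only [Option.elim_some, Option.elim_none] at e2
          have h3 := congrArg ((g⁻¹ : G') : Matrix (Fin n) (Fin n) F).mulVec e2
          rw [Matrix.mulVec_mulVec, ← Matrix.SpecialLinearGroup.coe_mul, inv_mul_cancel,
            Matrix.SpecialLinearGroup.coe_one, Matrix.one_mulVec, ← key (c : F), Matrix.mulVec_mulVec,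
            ← Matrix.SpecialLinearGroup.coe_mul, inv_mul_cancel, Matrix.SpecialLinearGroup.coe_one,
            Matrix.one_mulVec] at h3
          have h4 := congrFun h3 i1
          simp [Ne.symm hi] at h4
        · simp only [Option.elim_some, key] at e2
          have h3 := congrFun e2 i0
          simp only [Pi.single_eq_same] at h3
          rw [Units.ext h3]
      · obtain ⟨⟨v, w⟩, rfl⟩ := Quotient.mk''_surjective q
        by_cases hli : LinearIndependent F ![v.1, w.1]
        · obtain ⟨g, hg⟩ := exists_sl_map (k := 2) (n := n) (by omega) hli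
          refine ⟨none, Quotient.eq''.2 ?_⟩
          rw [MulAction.orbitRel_apply, MulAction.mem_orbit_iff]
          refine ⟨g⁻¹, inv_smul_eq_iff.2 (Prod.ext (Subtype.ext ?_) (Subtype.ext ?_))⟩
          · exact (hg 0).symm
          · exact (hg 1).symm
        · rw [LinearIndependent.pair_iff' v.2] at hli
          push Not at hli
          obtain ⟨c, hc⟩ := hli
          have hc0 : c ≠ 0 := fun h => w.2 (by rw [← hc, h, zero_smul])
          obtain ⟨g, hg⟩ := ht v
          refine ⟨some (Units.mk0 c hc0), Quotient.eq''.2 ?_⟩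
          rw [MulAction.orbitRel_apply, MulAction.mem_orbit_iff]
          refine ⟨g⁻¹, inv_smul_eq_iff.2 (Prod.ext hg.symm (Subtype.ext ?_))⟩
          show w.1 = (g : Matrix (Fin n) (Fin n) F) *ᵥ Pi.single i0 c
          rw [show (Pi.single i0 c : Fin n → F) = c • x0.1 by simp [x0, ← Pi.single_smul], Matrix.mulVec_smul,
            ← coe_nzSmul, hg, hc]
    have hcnt := MulAction.sum_card_fixedBy_eq_card_orbits_mul_card_group G' (NZVec F n × NZVec F n)
    rw [← Nat.card_eq_fintype_card (α := MulAction.orbitRel.Quotient G' (NZVec F n × NZVec F n)),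
      ← Nat.card_congr (Equiv.ofBijective f hf), Finite.card_option] at hcnt
    have hsq : ∀ g : G', Fintype.card (MulAction.fixedBy (NZVec F n × NZVec F n) g) =
        Nat.card (MulAction.fixedBy (NZVec F n) g) * Nat.card (MulAction.fixedBy (NZVec F n) g) := fun g => by
      rw [← Nat.card_eq_fintype_card, ← Nat.card_prod]
      exact Nat.card_congr ((Equiv.subtypeEquivRight fun x => by
        simp [MulAction.mem_fixedBy, Prod.ext_iff, Set.mem_prod]).trans (Equiv.Set.prod _ _))
    rw [Finset.sum_congr rfl fun g _ => hsq g, ← Nat.card_eq_fintype_card (α := G')] at hcnt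
    rw [hperm, classInner_def]
    simp only [map_natCast, ← Nat.cast_mul, ← Nat.cast_sum]
    rw [hcnt, Nat.cast_mul, mul_comm ((Nat.card Fˣ + 1 : ℕ) : ℂ), ← mul_assoc,
      inv_mul_cancel₀ (by exact_mod_cast Nat.card_pos.ne'), one_mul]
    push_cast
    rfl
  obtain ⟨χ, h1, h2, h3⟩ := exists_perm_split hSH hH a ha hker hnorm
  have hc : Fintype.card F - 1 = Nat.card Fˣ := by rw [Nat.card_units, Nat.card_eq_fintype_card]
  refine ⟨fun i => χ (Fin.cast hc i), fun i => h1 _, h2.comp (Fin.cast_injective hc), fun g => ?_⟩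
  have h4 := congrFun (hperm.symm.trans h3) g
  show _ = 1 + ∑ i, χ (finCongr hc i) g
  rw [Equiv.sum_comp (finCongr hc) (fun i => χ i g), ← h4]
  congr 1
  exact Nat.card_congr
    { toFun := fun v => ⟨⟨v.1, v.2.1⟩, Subtype.ext v.2.2⟩
      invFun := fun v => ⟨v.1.1, v.1.2, congrArg Subtype.val v.2⟩
      left_inv := fun _ => rfl
      right_inv := fun _ => rfl }

end CfsgLib.Char
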